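import Groth.Agent.Lib.MultDef14.HomOfPt
import Groth.Agent.Lib.AlgSp.SliceLemmas

/-!
Lifting homomorphisms along a square-zero thickening, given a lift of the underlying morphism into a
formally smooth scheme over the target.
-/

universe u

open CategoryTheory MonoidalCategory CartesianMonoidalCategory MonObj GrpObj AlgebraicGeometry
open scoped TensorProduct

set_option backward.isDefEq.respectTransparency false

namespace GrothLib.SqLift14

open GrothLib.MultDef14 GrothLib.DiagGrp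

variable {R : Type u} [CommRing R] {H G : Over (Spec (CommRingCat.of R))} [GrpObj H] [GrpObj G]
variable {A : Type u} [CommRing A] [Algebra R A] {h : aff (𝟙 (Spec (CommRingCat.of R))) A ⟶ H}

/-- A homomorphism over a closed subscheme as a multiplicative point, with its underlying morphism. -/
theorem exists_point_of_hom₀_left (hu : IsUniv (𝟙 (Spec (CommRingCat.of R))) h) (J : Ideal R)
    (f₀ : Red.bc (Spec.map (CommRingCat.ofHom (Ideal.Quotient.mk J))) H ⟶
      Red.bc (Spec.map (CommRingCat.ofHom (Ideal.Quotient.mk J))) G) [IsMonHom f₀] :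
    ∃ a₀ : aff (𝟙 (Spec (CommRingCat.of R))) (A ⧸ J.map (algebraMap R A)) ⟶ G,
      IsHomPt (affMap _ (Ideal.Quotient.mkₐ R (J.map (algebraMap R A))) ≫ h) a₀ ∧
      (∀ k : Spec (CommRingCat.of (A ⧸ J.map (algebraMap R A))) ⟶
          (Red.bc (Spec.map (CommRingCat.ofHom (Ideal.Quotient.mk J))) H).left,
        k ≫ Limits.pullback.fst H.hom (Spec.map (CommRingCat.ofHom (Ideal.Quotient.mk J))) =
            (affMap _ (Ideal.Quotient.mkₐ R (J.map (algebraMap R A))) ≫ h).left →
          a₀.left = k ≫ f₀.left ≫ Limits.pullback.fst G.hom (Spec.map (CommRingCat.ofHom (Ideal.Quotient.mk J)))) ∧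
      ∀ w : H ⟶ G, affMap _ (Ideal.Quotient.mkₐ R (J.map (algebraMap R A))) ≫ h ≫ w = a₀ →
        (Over.pullback (Spec.map (CommRingCat.ofHom (Ideal.Quotient.mk J)))).map w = f₀ := by
  let q := 𝟙 (Spec (CommRingCat.of R))
  let z := Spec.map (CommRingCat.ofHom (Ideal.Quotient.mk J))
  let Φ : ∀ T : Over (Spec (CommRingCat.of (R ⧸ J))), ((Over.map z).obj T ⟶ H) →* ((Over.map z).obj T ⟶ G) :=
    fun T => ((bcPointMulEquiv z G T).symm.toMonoidHom.comp
      (MonoidHom.mk' (fun y : T ⟶ Red.bc z H => y ≫ f₀) fun a b => MonObj.mul_comp a b f₀)).comp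
      (bcPointMulEquiv z H T).toMonoidHom
  have hΦ : ∀ T y, bcPoint z G T (Φ T y) = bcPoint z H T y ≫ f₀ := fun T y => (bcPoint z G T).apply_symm_apply _
  have hnat : ∀ {T T' : Over (Spec (CommRingCat.of (R ⧸ J)))} (k : T' ⟶ T) y,
      Φ T' ((Over.map z).map k ≫ y) = (Over.map z).map k ≫ Φ T y := fun k y => by
    apply (bcPoint z G _).injective
    rw [hΦ, DiagGrp.bcPoint_comp, DiagGrp.bcPoint_comp, hΦ, Category.assoc]
  let A₀ := A ⧸ J.map (algebraMap R A)
  let mkA : A →ₐ[R] A₀ := Ideal.Quotient.mkₐ R _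
  let T₀ : Over (Spec (CommRingCat.of (R ⧸ J))) :=
    Over.mk (Spec.map (CommRingCat.ofHom ((quotA (A := A) J : R ⧸ J →ₐ[R] A₀) : R ⧸ J →+* A₀)))
  have hB : ∀ {B : Type u} [CommRing B] [Algebra R B] (k : R ⧸ J →ₐ[R] B),
      Spec.map (CommRingCat.ofHom (algebraMap R B)) ≫ q =
        Spec.map (CommRingCat.ofHom (k : R ⧸ J →+* B)) ≫ z := fun k => by
    change Spec.map (CommRingCat.ofHom (algebraMap R _)) ≫ 𝟙 _ = _ ≫ Spec.map _
    rw [Category.comp_id, ← Spec.map_comp, ← CommRingCat.ofHom_comp, ← AlgHom.comp_algebraMap k]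
    rfl
  let e₀ : aff q A₀ ⟶ (Over.map z).obj T₀ := Over.homMk (𝟙 _) ((Category.id_comp _).trans (hB _).symm)
  let e₀' : (Over.map z).obj T₀ ⟶ aff q A₀ := Over.homMk (𝟙 _) ((Category.id_comp _).trans (hB _))
  let a₀ : aff q A₀ ⟶ G := e₀ ≫ Φ T₀ (e₀' ≫ affMap q mkA ≫ h)
  have hhom : IsHomPt (affMap q mkA ≫ h) a₀ := by
    intro B _ _ f g k e
    let T : Over (Spec (CommRingCat.of (R ⧸ J))) :=
      Over.mk (Spec.map (CommRingCat.ofHom ((k.comp (quotA J) : R ⧸ J →ₐ[R] B) : R ⧸ J →+* B)))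
    let eB : aff q B ⟶ (Over.map z).obj T := Over.homMk (𝟙 _) ((Category.id_comp _).trans (hB _).symm)
    let eB' : (Over.map z).obj T ⟶ aff q B := Over.homMk (𝟙 _) ((Category.id_comp _).trans (hB _))
    let m : (A₀ →ₐ[R] B) → (T ⟶ T₀) := fun l => Over.homMk (Spec.map (CommRingCat.ofHom (l : A₀ →+* B))) (by
      change Spec.map _ ≫ Spec.map _ = Spec.map _
      rw [← Spec.map_comp, ← CommRingCat.ofHom_comp]
      exact congrArg (fun φ : R ⧸ J →ₐ[R] B => Spec.map (CommRingCat.ofHom (φ : R ⧸ J →+* B)))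
        (Ideal.Quotient.algHom_ext R (Subsingleton.elim _ _) : l.comp (quotA J) = k.comp (quotA J)))
    have hmv : ∀ l, affMap q l ≫ a₀ = eB ≫ Φ T ((Over.map z).map (m l) ≫ e₀' ≫ affMap q mkA ≫ h) := fun l => by
      rw [hnat, ← Category.assoc eB, ← Category.assoc (affMap q l)]
      congr 1
    have hl : ∀ l, (Over.map z).map (m l) ≫ e₀' ≫ affMap q mkA ≫ h = eB' ≫ affMap q l ≫ affMap q mkA ≫ h := fun l => by
      rw [← Category.assoc ((Over.map z).map _), ← Category.assoc eB']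
      congr 1
    rw [hmv, hmv, hmv, hl, hl, hl, ← MonObj.comp_mul, ← map_mul, ← MonObj.comp_mul, e]
  have hleft : ∀ {X : Over (Spec (CommRingCat.of R))} {T : Over (Spec (CommRingCat.of (R ⧸ J)))}
      (y : (Over.map z).obj T ⟶ X), (bcPoint z X T y).left ≫ Limits.pullback.fst X.hom z = y.left := fun y => by
    rw [bcPoint, Over.mapPullbackAdj, Adjunction.mkOfHomEquiv_homEquiv]
    exact Limits.pullback.lift_fst _ _ _
  haveI : IsClosedImmersion z := IsClosedImmersion.spec_of_surjective _ Ideal.Quotient.mk_surjective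
  refine ⟨a₀, hhom, fun k hk => ?_, fun w hw => ?_⟩
  · have e1 : k = (bcPoint z H T₀ (e₀' ≫ affMap q mkA ≫ h)).left := by
      refine Limits.pullback.hom_ext ?_ ?_
      · rw [hk, hleft]
        exact (Category.id_comp _).symm
      · rw [← cancel_mono z, Category.assoc, Category.assoc, ← Limits.pullback.condition, reassoc_of% hk,
          reassoc_of% (hleft (e₀' ≫ affMap q mkA ≫ h)), Over.w, Over.w]
        exact (hB (B := A ⧸ J.map (algebraMap R A)) (quotA J)).trans rfl
    have e2 := (hleft (Φ T₀ (e₀' ≫ affMap q mkA ≫ h))).symm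
    have e3 := congrArg Over.Hom.left (hΦ T₀ (e₀' ≫ affMap q mkA ≫ h))
    refine (Category.id_comp _).trans (e2.trans ?_)
    rw [e3, Over.comp_left, ← e1]
    exact Category.assoc _ _ _
  have key : ∀ (T : Over (Spec (CommRingCat.of (R ⧸ J)))) (y : (Over.map z).obj T ⟶ H), y ≫ w = Φ T y := by
    intro T y
    obtain ⟨t, -, ht⟩ := hu.factor _ (toUnit _ ≫ unitTo) y
    have sq : IsPullback (Spec.map (CommRingCat.ofHom ((quotA (A := A) J : R ⧸ J →ₐ[R] A₀) : R ⧸ J →+* A₀)))
        (Spec.map (CommRingCat.ofHom (mkA : A →+* A₀))) z (Spec.map (CommRingCat.ofHom (algebraMap R A))) := by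
      have e : ((quotA (A := A) J : R ⧸ J →ₐ[R] A₀) : R ⧸ J →+* A₀) =
          Ideal.quotientMap (J.map (algebraMap R A)) (algebraMap R A) Ideal.le_comap_map :=
        Ideal.Quotient.ringHom_ext (RingHom.ext fun _ => rfl)
      rw [e]
      exact (AlgSp.isPullback_SpecMap_quotient (CommRingCat.ofHom (algebraMap R A)) J).flip
    have ht' : T.hom ≫ z = t.left ≫ Spec.map (CommRingCat.ofHom (algebraMap R A)) := by
      have := Over.w t
      change t.left ≫ Spec.map _ ≫ 𝟙 _ = T.hom ≫ z at this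
      rw [Category.comp_id] at this
      exact this.symm
    let t' : T ⟶ T₀ := Over.homMk (sq.lift T.hom t.left ht') (sq.lift_fst _ _ _)
    have hy : y = (Over.map z).map t' ≫ e₀' ≫ affMap q mkA ≫ h := by
      rw [← ht, ← Category.assoc, ← Category.assoc]
      congr 1
      refine Over.OverMorphism.ext ?_
      change t.left = (sq.lift T.hom t.left ht' ≫ 𝟙 _) ≫ Spec.map _
      rw [Category.comp_id, sq.lift_snd]
    conv_lhs => rw [hy]
    rw [hy, hnat, Category.assoc, Category.assoc, Category.assoc, hw]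
    congr 1
  have e := key (Red.bc z H) ((bcPoint z H _).symm (𝟙 _))
  have e' := congrArg (bcPoint z G _) e
  rw [DiagGrp.bcPoint_comp_right, Equiv.apply_symm_apply, Category.id_comp, hΦ, Equiv.apply_symm_apply,
    Category.id_comp] at e'
  exact e'

/-- Homomorphisms out of groups of multiplicative type lift along square-zero thickenings as soon as the
underlying morphism factors through a formally smooth scheme over the target. -/
theorem exists_hom_lift_of_factor {Q : ∀ (M : Type), AddCommGroup M → Prop} (hH : HasChartsFpqc Q H)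
    (J : Ideal R) (hJ : J ^ 2 = ⊥)
    (f₀ : Red.bc (Spec.map (CommRingCat.ofHom (Ideal.Quotient.mk J))) H ⟶
      Red.bc (Spec.map (CommRingCat.ofHom (Ideal.Quotient.mk J))) G) [IsMonHom f₀]
    {X : Scheme.{u}} (x : X ⟶ G.left) (hX : MoreMor.IsFormallySmoothHom (x ≫ G.hom))
    (t : (Red.bc (Spec.map (CommRingCat.ofHom (Ideal.Quotient.mk J))) H).left ⟶ X)
    (ht : t ≫ x = f₀.left ≫ Limits.pullback.fst G.hom (Spec.map (CommRingCat.ofHom (Ideal.Quotient.mk J)))) :
    ∃ f : H ⟶ G, IsMonHom f ∧ (Over.pullback (Spec.map (CommRingCat.ofHom (Ideal.Quotient.mk J)))).map f = f₀ := by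
  obtain ⟨A, _, _, h, hu⟩ := exists_isUniv (𝟙 (Spec (CommRingCat.of R))) H (EssFree.isAffineHom_of_charts hH)
  obtain ⟨a₀, hhom, hleft, hred⟩ := exists_point_of_hom₀_left hu J f₀
  let mkA : A →ₐ[R] A ⧸ J.map (algebraMap R A) := Ideal.Quotient.mkₐ R _
  have hsq : (affMap (𝟙 (Spec (CommRingCat.of R))) mkA ≫ h).left ≫ H.hom =
      Spec.map (CommRingCat.ofHom ((quotA (A := A) J : R ⧸ J →ₐ[R] A ⧸ J.map (algebraMap R A)) : R ⧸ J →+* _)) ≫
        Spec.map (CommRingCat.ofHom (Ideal.Quotient.mk J)) := by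
    rw [Over.w, ← Spec.map_comp, ← CommRingCat.ofHom_comp]
    exact Category.comp_id _
  let k : Spec (CommRingCat.of (A ⧸ J.map (algebraMap R A))) ⟶
      (Red.bc (Spec.map (CommRingCat.ofHom (Ideal.Quotient.mk J))) H).left := Limits.pullback.lift _ _ hsq
  have hk := hleft k (Limits.pullback.lift_fst _ _ _)
  let X' : Over (Spec (CommRingCat.of R)) := Over.mk (x ≫ G.hom)
  let xx : X' ⟶ G := Over.homMk x rfl
  let b₀ : aff (𝟙 (Spec (CommRingCat.of R))) (A ⧸ J.map (algebraMap R A)) ⟶ X' := Over.homMk (k ≫ t) (by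
    change (k ≫ t) ≫ x ≫ G.hom = _
    rw [← Category.assoc, Category.assoc k, ht, ← hk]
    exact Over.w a₀)
  obtain ⟨b, hb⟩ := exists_lift_aff (q := 𝟙 (Spec (CommRingCat.of R))) (G := X') hX (J.map (algebraMap R A))
    (by rw [← Ideal.map_pow, hJ, Ideal.map_bot]) b₀
  have e : b₀ ≫ xx = a₀ := Over.OverMorphism.ext (by
    change (k ≫ t) ≫ x = _
    rw [Category.assoc, ht, hk])
  obtain ⟨a, ha, hah⟩ := exists_homPt_step hH hu J hJ (b ≫ xx) (by rwa [reassoc_of% hb, e])
  obtain ⟨w, hwm, hw⟩ := exists_hom_of_homPt hu hah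
  exact ⟨w, hwm, hred w (by rw [hw, ha, reassoc_of% hb, e])⟩

end GrothLib.SqLift14
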